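import Mathlib.Algebra.Module.PID
import Mathlib.Algebra.Polynomial.Module.AEval
import Mathlib.RingTheory.AdjoinRoot
import Mathlib.LinearAlgebra.StdBasis
import Mathlib.RingTheory.PrincipalIdealDomain
import Mathlib.Algebra.Polynomial.FieldDivision

/-!
String bases of nilpotent operators.
-/

universe u

open Polynomial

namespace WeitzLib

/-- A nilpotent operator has a basis consisting of strings. -/
theorem exists_string_basis {k V : Type u} [Field k] [AddCommGroup V] [Module k V] [FiniteDimensional k V]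
    (T : Module.End k V) (hT : IsNilpotent T) :
    ∃ (r : ℕ) (L : Fin r → ℕ) (b : Module.Basis (Σ a : Fin r, Fin (L a)) k V),
      ∀ x : Σ a : Fin r, Fin (L a),
        T (b x) = if h : x.2.1 + 1 < L x.1 then b ⟨x.1, ⟨x.2.1 + 1, h⟩⟩ else 0 := by
  classical
  obtain ⟨N, hN⟩ := hT
  have hX : ∀ (n : ℕ) (v : V), (X : k[X]) ^ n • Module.AEval'.of T v = Module.AEval'.of T ((T ^ n) v) := by
    intro n v
    induction n with
    | zero => simp
    | succ n ih => rw [pow_succ', mul_smul, ih, Module.AEval'.X_smul_of, pow_succ', Module.End.mul_apply]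
  have htor : Module.IsTorsion k[X] (Module.AEval' T) := fun z => by
    obtain ⟨v, rfl⟩ := (Module.AEval'.of T).surjective z
    exact ⟨⟨X ^ N, mem_nonZeroDivisors_of_ne_zero (pow_ne_zero _ X_ne_zero)⟩, by
      show (X : k[X]) ^ N • Module.AEval'.of T v = 0
      rw [hX, hN]; simp⟩
  obtain ⟨ι, _, p, hp, e, ⟨E⟩⟩ := Module.equiv_directSum_of_isTorsion htor
  let E₁ : Module.AEval' T ≃ₗ[k[X]] ∀ i, k[X] ⧸ k[X] ∙ p i ^ e i :=
    E ≪≫ₗ DirectSum.linearEquivFunOnFintype k[X] ι _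
  -- every prime occurring is associated to `X`
  have hspan : ∀ i, (k[X] ∙ p i ^ e i) = (k[X] ∙ (X : k[X]) ^ e i) := by
    intro i
    rcases Nat.eq_zero_or_pos (e i) with h0 | h0
    · simp [h0]
    have hkill : ∀ z : k[X] ⧸ k[X] ∙ p i ^ e i, (X : k[X]) ^ N • z = 0 := by
      intro z
      obtain ⟨v, hv⟩ := E₁.surjective (Pi.single i z)
      obtain ⟨v, rfl⟩ := (Module.AEval'.of T).surjective v
      have : (X : k[X]) ^ N • (Pi.single i z : ∀ i, k[X] ⧸ k[X] ∙ p i ^ e i) = 0 := by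
        rw [← hv, ← map_smul, hX, hN]; simp
      simpa using congrFun this i
    have hdvd : p i ∣ X ^ N := by
      have h1 := hkill (Submodule.Quotient.mk 1)
      rw [← Submodule.Quotient.mk_smul, Submodule.Quotient.mk_eq_zero, Submodule.mem_span_singleton] at h1
      obtain ⟨c, hc⟩ := h1
      rw [smul_eq_mul, smul_eq_mul, mul_one] at hc
      exact (dvd_pow_self _ h0.ne').trans ⟨c, by rw [← hc]; ring⟩
    have hass : Associated (p i) X :=
      (hp i).associated_of_dvd irreducible_X ((hp i).prime.dvd_of_dvd_pow hdvd)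
    exact Ideal.span_singleton_eq_span_singleton.2 (hass.pow_pow)
  let E₂ : Module.AEval' T ≃ₗ[k[X]] ∀ i, k[X] ⧸ k[X] ∙ (X : k[X]) ^ e i :=
    E₁ ≪≫ₗ LinearEquiv.piCongrRight fun i => Submodule.quotEquivOfEq _ _ (hspan i)
  let E₃ : V ≃ₗ[k] ∀ i, k[X] ⧸ k[X] ∙ (X : k[X]) ^ e i :=
    Module.AEval'.of T ≪≫ₗ E₂.restrictScalars k
  have hT₃ : ∀ v, E₃ (T v) = (X : k[X]) • E₃ v := fun v => by
    show E₂ (Module.AEval'.of T (T v)) = (X : k[X]) • E₂ (Module.AEval'.of T v)
    rw [← Module.AEval'.X_smul_of, map_smul]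
  let bi : ∀ i, Module.Basis (Fin (e i)) k (k[X] ⧸ k[X] ∙ (X : k[X]) ^ e i) := fun i =>
    (AdjoinRoot.powerBasis' (monic_X_pow (R := k) (e i))).basis.reindex (finCongr (natDegree_X_pow (e i)))
  have hbi : ∀ i (j : Fin (e i)), bi i j = Submodule.Quotient.mk ((X : k[X]) ^ (j : ℕ)) := fun i j => by
    show (AdjoinRoot.powerBasis' (monic_X_pow (R := k) (e i))).basis.reindex
      (finCongr (natDegree_X_pow (e i))) j = _
    rw [Module.Basis.reindex_apply, PowerBasis.basis_eq_pow]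
    show (AdjoinRoot.mk _ (X : k[X])) ^ _ = _
    rw [← map_pow]; rfl
  let σ := Fintype.equivFin ι
  let L : Fin (Fintype.card ι) → ℕ := fun a => e (σ.symm a)
  let B := ((Pi.basis bi).map E₃.symm).reindex
    (Equiv.sigmaCongrLeft' (α₁ := ι) (β := fun i => Fin (e i)) σ)
  have hB : ∀ x : Σ a, Fin (L a), B x = E₃.symm (Pi.single (σ.symm x.1)
      (Submodule.Quotient.mk ((X : k[X]) ^ (x.2 : ℕ)))) := fun ⟨a, j⟩ => by
    simp only [B, Module.Basis.reindex_apply, Module.Basis.map_apply]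
    rw [show (Equiv.sigmaCongrLeft' (α₁ := ι) (β := fun i => Fin (e i)) σ).symm ⟨a, j⟩ = ⟨σ.symm a, j⟩
      from rfl, Pi.basis_apply, hbi]
  refine ⟨_, L, B, fun x => ?_⟩
  apply E₃.injective
  rw [hT₃, hB, LinearEquiv.apply_symm_apply, ← Pi.single_smul]
  have hmul : (X : k[X]) • (Submodule.Quotient.mk ((X : k[X]) ^ (x.2 : ℕ)) :
      k[X] ⧸ k[X] ∙ (X : k[X]) ^ e (σ.symm x.1)) = Submodule.Quotient.mk ((X : k[X]) ^ ((x.2 : ℕ) + 1)) := by
    rw [← Submodule.Quotient.mk_smul, pow_succ', smul_eq_mul]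
  rw [hmul]
  split_ifs with h
  · rw [hB, LinearEquiv.apply_symm_apply]
  · rw [map_zero, (Submodule.Quotient.mk_eq_zero _).2 (Ideal.mem_span_singleton.2 (pow_dvd_pow _ (Nat.le_of_not_lt h))),
      Pi.single_zero]

end WeitzLib
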