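import Groth.Agent.WeitzLib.Hilbert
import Mathlib.Algebra.MvPolynomial.Rename
import Mathlib.Data.Nat.Factorial.Basic

/-!
Weitzenböck's theorem for a derivation that moves the variables along strings.
-/

universe u

open MvPolynomial

namespace WeitzLib

variable (k : Type u) [Field k] {ι : Type} [Fintype ι] (L : ι → ℕ)

/-- The variables. -/
abbrev Vars := Σ b : ι, Fin (L b)

/-- The shift along the strings. -/
noncomputable def eV (x : Vars L) : MvPolynomial (Vars L) k :=
  if h : x.2.1 + 1 < L x.1 then X ⟨x.1, ⟨x.2.1 + 1, h⟩⟩ else 0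

/-- The backward shift. -/
noncomputable def fV (x : Vars L) : MvPolynomial (Vars L) k :=
  C ((x.2.1 * (L x.1 - x.2.1) : ℕ) : k) * X ⟨x.1, ⟨x.2.1 - 1, by omega⟩⟩

/-- The weights. -/
noncomputable def wV (x : Vars L) : k := 2 * (x.2.1 : k) - (L x.1 : k) + 1

local notation "D0e" => mkDerivation k (eV k L)
local notation "D0f" => mkDerivation k (fV k L)
local notation "D0h" => mkDerivation k (fun x => C (wV k L x) * X x)
local notation "ρ" => (rename Sum.inl : MvPolynomial (Vars L) k →ₐ[k] MvPolynomial (Vars L ⊕ Fin 2) k)
local notation "U" => (X (Sum.inr 0) : MvPolynomial (Vars L ⊕ Fin 2) k)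
local notation "V'" => (X (Sum.inr 1) : MvPolynomial (Vars L ⊕ Fin 2) k)

/-- The extension of the raising derivation. -/
noncomputable def De : Derivation k (MvPolynomial (Vars L ⊕ Fin 2) k) (MvPolynomial (Vars L ⊕ Fin 2) k) :=
  mkDerivation k (Sum.elim (fun x => ρ (eV k L x)) ![0, U])

/-- The extension of the lowering derivation. -/
noncomputable def Df : Derivation k (MvPolynomial (Vars L ⊕ Fin 2) k) (MvPolynomial (Vars L ⊕ Fin 2) k) :=
  mkDerivation k (Sum.elim (fun x => ρ (fV k L x)) ![V', 0])

/-- The extension of the weight derivation. -/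
noncomputable def Dh : Derivation k (MvPolynomial (Vars L ⊕ Fin 2) k) (MvPolynomial (Vars L ⊕ Fin 2) k) :=
  mkDerivation k (Sum.elim (fun x => ρ (C (wV k L x) * X x)) ![U, -V'])

lemma eV_hom (x : Vars L) : (eV k L x).IsHomogeneous 1 := by
  unfold eV
  split_ifs
  · exact isHomogeneous_X _ _
  · exact isHomogeneous_zero _ _ _

lemma fV_hom (x : Vars L) : (fV k L x).IsHomogeneous 1 := (isHomogeneous_X _ _).C_mul _

lemma rename_deriv {D₀ : Derivation k (MvPolynomial (Vars L) k) (MvPolynomial (Vars L) k)}
    {D : Derivation k (MvPolynomial (Vars L ⊕ Fin 2) k) (MvPolynomial (Vars L ⊕ Fin 2) k)}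
    (h : ∀ x, D (X (Sum.inl x)) = ρ (D₀ (X x))) (p : MvPolynomial (Vars L) k) : D (ρ p) = ρ (D₀ p) := by
  induction p using MvPolynomial.induction_on with
  | C c => simp
  | add p q hp hq => simp [hp, hq]
  | mul_X p x hp =>
    simp only [map_mul, rename_X, Derivation.leibniz, h, hp, map_add, smul_eq_mul]

lemma bracket_he (x : Vars L) : D0h (eV k L x) - D0e (C (wV k L x) * X x) = 2 • eV k L x := by
  obtain ⟨b, i⟩ := x
  rw [eV]
  split_ifs with h
  · simp only [Derivation.leibniz, mkDerivation_X, derivation_C, smul_eq_mul, mul_zero, add_zero, wV,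
      eV, dif_pos h]
    push_cast
    simp only [nsmul_eq_mul, map_add, map_sub, map_mul, map_one, map_ofNat]
    push_cast
    simp only [map_natCast, map_add, map_one]
    ring
  · simp [eV, h]

lemma bracket_hf (x : Vars L) : D0h (fV k L x) - D0f (C (wV k L x) * X x) = -(2 • fV k L x) := by
  obtain ⟨b, i⟩ := x
  rcases Nat.eq_zero_or_pos i.1 with hi | hi
  · simp [fV, hi]
  · simp only [Derivation.leibniz, mkDerivation_X, derivation_C, smul_eq_mul, mul_zero, add_zero, fV, wV]
    rw [Nat.cast_sub hi]
    simp only [nsmul_eq_mul, map_add, map_sub, map_mul, map_one, map_ofNat, map_natCast, Nat.cast_ofNat,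
      Nat.cast_one]
    ring

lemma bracket_ef (x : Vars L) : D0e (fV k L x) - D0f (eV k L x) = C (wV k L x) * X x := by
  obtain ⟨b, ⟨i, hi⟩⟩ := x
  have h1 : D0e (fV k L ⟨b, ⟨i, hi⟩⟩) = C ((i * (L b - i) : ℕ) : k) * X ⟨b, ⟨i, hi⟩⟩ := by
    rcases Nat.eq_zero_or_pos i with h0 | h0
    · subst h0; simp [fV]
    · simp only [fV, Derivation.leibniz, mkDerivation_X, derivation_C, smul_eq_mul, mul_zero, add_zero, eV]
      rw [dif_pos (by omega)]
      congr 3
      ext
      simp; omega
  rw [h1, eV]
  split_ifs with h
  · simp only [mkDerivation_X, fV, wV]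
    rw [show (⟨b, ⟨i + 1 - 1, by omega⟩⟩ : Vars L) = ⟨b, ⟨i, hi⟩⟩ by simp, ← sub_mul, ← map_sub]
    congr 2
    obtain ⟨c, hc⟩ : ∃ c, L b = i + 1 + c := ⟨L b - (i + 1), by omega⟩
    simp only [hc, show i + 1 + c - i = 1 + c by omega, show i + 1 + c - (i + 1) = c by omega]
    push_cast; ring
  · simp only [map_zero, sub_zero, wV]
    congr 2
    have hL : L b = i + 1 := by simp at h; omega
    simp only [hL, show i + 1 - i = 1 by omega]
    push_cast; ring

lemma dtrip : DTrip (De k L) (Df k L) (Dh k L) where
  linE i := by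
    rcases i with x | j
    · simpa [De] using (eV_hom k L x).rename_isHomogeneous
    · fin_cases j
      · simpa [De] using isHomogeneous_zero _ _ _
      · simpa [De] using isHomogeneous_X _ _
  linF i := by
    rcases i with x | j
    · simpa [Df] using (fV_hom k L x).rename_isHomogeneous
    · fin_cases j
      · simpa [Df] using isHomogeneous_X _ _
      · simpa [Df] using isHomogeneous_zero _ _ _
  linH i := by
    rcases i with x | j
    · simpa [Dh] using (isHomogeneous_X k (Sum.inl x : Vars L ⊕ Fin 2)).C_mul (wV k L x)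
    · fin_cases j
      · simpa [Dh] using isHomogeneous_X _ _
      · simpa [Dh] using (isHomogeneous_X k (Sum.inr 1 : Vars L ⊕ Fin 2)).neg
  he i := by
    rcases i with x | j
    · have h1 := rename_deriv k L (D₀ := D0e) (D := De k L) (by simp [De])
      have h2 := rename_deriv k L (D₀ := D0h) (D := Dh k L) (by simp [Dh])
      rw [show De k L (X (Sum.inl x)) = ρ (eV k L x) by simp [De],
        show Dh k L (X (Sum.inl x)) = ρ (C (wV k L x) * X x) by simp [Dh], h2, h1, ← map_sub,
        bracket_he, map_nsmul]
    · fin_cases j <;> simp [De, Dh, two_smul]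
  hf i := by
    rcases i with x | j
    · have h1 := rename_deriv k L (D₀ := D0f) (D := Df k L) (by simp [Df])
      have h2 := rename_deriv k L (D₀ := D0h) (D := Dh k L) (by simp [Dh])
      rw [show Df k L (X (Sum.inl x)) = ρ (fV k L x) by simp [Df],
        show Dh k L (X (Sum.inl x)) = ρ (C (wV k L x) * X x) by simp [Dh], h2, h1, ← map_sub,
        bracket_hf, map_neg, map_nsmul]
    · fin_cases j <;> simp [Df, Dh, two_smul] <;> abel
  ef i := by
    rcases i with x | j
    · have h1 := rename_deriv k L (D₀ := D0e) (D := De k L) (by simp [De])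
      have h2 := rename_deriv k L (D₀ := D0f) (D := Df k L) (by simp [Df])
      rw [show De k L (X (Sum.inl x)) = ρ (eV k L x) by simp [De],
        show Df k L (X (Sum.inl x)) = ρ (fV k L x) by simp [Df],
        show Dh k L (X (Sum.inl x)) = ρ (C (wV k L x) * X x) by simp [Dh], h1, h2, ← map_sub, bracket_ef]
    · fin_cases j <;> simp [De, Df, Dh]

lemma trip₀ : DTrip D0e D0f D0h where
  linE i := by simpa using eV_hom k L i
  linF i := by simpa using fV_hom k L i
  linH i := by simpa using (isHomogeneous_X k i).C_mul (wV k L i)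
  he i := by simpa using bracket_he k L i
  hf i := by simpa using bracket_hf k L i
  ef i := by simpa using bracket_ef k L i

/-- Evaluation at `(u, v) = (0, 1)`. -/
noncomputable def ev : MvPolynomial (Vars L ⊕ Fin 2) k →ₐ[k] MvPolynomial (Vars L) k :=
  aeval (Sum.elim X ![0, 1])

lemma ev_De (p : MvPolynomial (Vars L ⊕ Fin 2) k) : ev k L (De k L p) = D0e (ev k L p) := by
  induction p using MvPolynomial.induction_on with
  | C c => simp [ev]
  | add p q hp hq => simp [hp, hq]
  | mul_X p x hp =>
    simp only [Derivation.leibniz, smul_eq_mul, map_add, map_mul, hp]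
    congr 2
    rcases x with x | j
    · have h1 : ∀ q, ev k L (ρ q) = q := fun q => by
        simp [ev, aeval_rename, Sum.elim_comp_inl, aeval_X_left_apply]
      rw [show ev k L (X (Sum.inl x)) = X x by simp [ev]]
      simp [De, h1]
    · fin_cases j <;> simp [De, ev]

variable [CharZero k]

lemma exists_lift {m : ℕ} (a : MvPolynomial (Vars L) k) (ha : D0e a = 0)
    (hw : D0h a = (m : k) • a) (hf : ((D0f).toLinearMap ^ (m + 1) : Module.End k _) a = 0) :
    ∃ F ∈ invariants (De k L) (Df k L), ev k L F = a := by
  let A : ℕ → MvPolynomial (Vars L) k := fun j => ((D0f).toLinearMap ^ j : Module.End k _) a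
  let c : ℕ → k := fun j => (-1) ^ j / (j.factorial : k)
  have hA : ∀ j, D0f (A j) = A (j + 1) := fun j => by
    simp only [A]; rw [pow_succ', Module.End.mul_apply]; rfl
  have hEA : ∀ j, D0e (A (j + 1)) = ((j + 1 : k) * ((m : k) - j)) • A j := fun j =>
    e_f_pow (trip₀ k L).trip ha hw j
  have hc : ∀ j, c (j + 1) * (j + 1 : k) = -c j := fun j => by
    have : (j.factorial : k) ≠ 0 := Nat.cast_ne_zero.2 j.factorial_ne_zero
    have : (j + 1 : k) ≠ 0 := Nat.cast_add_one_ne_zero j
    simp only [c, Nat.factorial_succ, Nat.cast_mul, Nat.cast_add, Nat.cast_one, pow_succ]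
    field_simp
  have hEv : De k L V' = U := by simp [De]
  have hEu : De k L U = 0 := by simp [De]
  have hFv : Df k L V' = 0 := by simp [Df]
  have hFu : Df k L U = V' := by simp [Df]
  have hE := rename_deriv k L (D₀ := D0e) (D := De k L) (by simp [De])
  have hF := rename_deriv k L (D₀ := D0f) (D := Df k L) (by simp [Df])
  let tm : ℕ → MvPolynomial (Vars L ⊕ Fin 2) k := fun j => C (c j) * ρ (A j) * (U ^ j * V' ^ (m - j))
  refine ⟨∑ j ∈ Finset.range (m + 1), tm j, ⟨?_, ?_⟩, ?_⟩
  · have key : ∀ n, n ≤ m → De k L (∑ j ∈ Finset.range (n + 1), tm j) =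
        C (c n * ((m - n : ℕ) : k)) * ρ (A n) * (U ^ (n + 1) * V' ^ (m - n - 1)) := by
      intro n
      induction n with
      | zero =>
        intro _
        have hA0 : D0e (A 0) = 0 := by simpa [A] using ha
        simp only [zero_add, Finset.sum_range_one, tm, Derivation.leibniz, Derivation.leibniz_pow, Derivation.map_one_eq_zero, hE, hA0,
          hEu, hEv, derivation_C, map_zero, smul_eq_mul, nsmul_eq_mul, map_mul, map_natCast, pow_one,
          pow_zero, Nat.sub_zero]
        ring
      | succ n ih =>
        intro hn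
        rw [Finset.sum_range_succ, map_add, ih (by omega)]
        obtain ⟨r, hr⟩ : ∃ r, m = n + 1 + r := ⟨m - (n + 1), by omega⟩
        simp only [tm, Derivation.leibniz, Derivation.leibniz_pow, hE, hEu, hEv, derivation_C, map_zero,
          smul_eq_mul, nsmul_eq_mul, hEA, map_smul, mul_zero, add_zero, zero_add]
        simp only [show m - n = r + 1 by omega, show m - (n + 1) = r by omega,
          show r + 1 - 1 = r by omega, smul_eq_C_mul]
        rw [show (m : k) - n = ((r + 1 : ℕ) : k) by rw [hr]; push_cast; ring,
          show c n = -(c (n + 1) * (n + 1 : k)) by rw [hc]; ring]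
        simp only [map_mul, map_neg, map_add, map_one, map_natCast, Nat.cast_add, Nat.cast_one]
        ring
    rw [key m le_rfl, Nat.sub_self]
    simp
  · have key : ∀ n, n ≤ m → Df k L (∑ j ∈ Finset.range (n + 1), tm j) =
        C (c n) * ρ (A (n + 1)) * (U ^ n * V' ^ (m - n)) := by
      intro n
      induction n with
      | zero =>
        intro _
        simp [tm, Derivation.leibniz_pow, hF, hA, hFv, mul_comm]
      | succ n ih =>
        intro hn
        rw [Finset.sum_range_succ, map_add, ih (by omega)]
        obtain ⟨r, hr⟩ : ∃ r, m = n + 1 + r := ⟨m - (n + 1), by omega⟩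
        simp only [tm, Derivation.leibniz, Derivation.leibniz_pow, hF, hA, hFu, hFv, derivation_C,
          smul_eq_mul, nsmul_eq_mul, mul_zero, add_zero, zero_add]
        simp only [show m - n = r + 1 by omega, show m - (n + 1) = r by omega,
          show n + 1 - 1 = n by omega]
        rw [show c n = -(c (n + 1) * (n + 1 : k)) by rw [hc]; ring]
        simp only [map_mul, map_neg, map_add, map_one, map_natCast, Nat.cast_add, Nat.cast_one]
        ring
    rw [key m le_rfl, show A (m + 1) = 0 from hf, map_zero, mul_zero, zero_mul]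
  · rw [map_sum, Finset.sum_eq_single 0 (fun j _ hj => by simp [tm, ev, hj]) (by simp)]
    simp [tm, c, A, ev, aeval_rename, Sum.elim_comp_inl, aeval_X_left_apply]

/-- The kernel of a derivation. -/
def kerSubalgebra {σ : Type} (D : Derivation k (MvPolynomial σ k) (MvPolynomial σ k)) :
    Subalgebra k (MvPolynomial σ k) where
  carrier := {p | D p = 0}
  mul_mem' := by intro a b (ha : D a = 0) (hb : D b = 0); simp [ha, hb]
  add_mem' := by intro a b (ha : D a = 0) (hb : D b = 0); simp [ha, hb]
  algebraMap_mem' r := by simp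

/-- Weitzenböck's theorem for strings. -/
theorem strings_fg [IsAlgClosed k] : (kerSubalgebra k D0e).FG := by
  classical
  have : kerSubalgebra k D0e = (invariants (De k L) (Df k L)).map (ev k L) := by
    refine le_antisymm ?_ ?_
    · intro a ha
      let wt : (Vars L →₀ ℕ) → k := fun s => s.sum fun x n => (n : k) * wV k L x
      have hwt : ∀ (s : Vars L →₀ ℕ) (r : k), D0h (monomial s r) = wt s • (monomial s r : MvPolynomial (Vars L) k) := by
        intro s r
        rw [mkDerivation_monomial, Finsupp.sum, Finset.smul_sum,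
          show wt s • (monomial s r : MvPolynomial (Vars L) k) =
            ∑ x ∈ s.support, ((s x : k) * wV k L x) • (monomial s r : MvPolynomial (Vars L) k) from
            Finset.sum_smul]
        refine Finset.sum_congr rfl fun x hx => ?_
        have h1 : s - Finsupp.single x 1 + Finsupp.single x 1 = s :=
          tsub_add_cancel_of_le (Finsupp.single_le_iff.2 (Nat.one_le_iff_ne_zero.2 (Finsupp.mem_support_iff.1 hx)))
        rw [smul_eq_mul, show (X x : MvPolynomial (Vars L) k) = monomial (Finsupp.single x 1) 1 from rfl,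
          C_mul_monomial, monomial_mul, smul_monomial, smul_monomial, h1]
        congr 1
        simp [mul_comm, mul_left_comm]
      rw [← sum_homogeneousComponent a]
      refine sum_mem fun n _ => ?_
      set b := homogeneousComponent n a
      have hb : D0e b = 0 := by
        rw [homogeneousComponent_comm (trip₀ k L).linE, show D0e a = 0 from ha, map_zero]
      have hbn : b.IsHomogeneous n := homogeneousComponent_isHomogeneous n a
      let piece : k → MvPolynomial (Vars L) k := fun μ =>
        ∑ s ∈ b.support with wt s = μ, monomial s (b.coeff s)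
      have hpw : ∀ μ, D0h (piece μ) = μ • piece μ := fun μ => by
        rw [map_sum, Finset.smul_sum]
        exact Finset.sum_congr rfl fun s hs => by rw [hwt, (Finset.mem_filter.1 hs).2]
      have hbsum : b = ∑ μ ∈ b.support.image wt, piece μ := by
        conv_lhs => rw [b.as_sum]
        exact (Finset.sum_fiberwise_of_maps_to (fun s hs => Finset.mem_image_of_mem wt hs) _).symm
      have hsep : ∀ (s : Finset k) (g : k → MvPolynomial (Vars L) k), (∀ μ ∈ s, D0h (g μ) = μ • g μ) →
          D0e (∑ μ ∈ s, g μ) = 0 → ∀ μ ∈ s, D0e (g μ) = 0 := by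
        intro s
        induction s using Finset.induction_on with
        | empty => simp
        | insert ν s hν ih =>
          intro g hg hsum
          have hh : ∀ z, D0e z = 0 → D0e (D0h z) = 0 := fun z hz => by
            have := LinearMap.congr_fun (trip₀ k L).trip.he z
            simp [hz] at this
            exact this
          have h1 : D0e (∑ μ ∈ s, (μ - ν) • g μ) = 0 := by
            have h2 : ∑ μ ∈ s, (μ - ν) • g μ =
                D0h (∑ μ ∈ insert ν s, g μ) - ν • ∑ μ ∈ insert ν s, g μ := by
              rw [Finset.sum_insert hν, map_add, hg ν (Finset.mem_insert_self _ _), map_sum, smul_add,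
                Finset.smul_sum, add_sub_add_left_eq_sub, ← Finset.sum_sub_distrib]
              exact Finset.sum_congr rfl fun μ hμ => by
                rw [hg μ (Finset.mem_insert_of_mem hμ), sub_smul]
            rw [h2, map_sub, Derivation.map_smul, hh _ hsum, hsum, smul_zero, sub_zero]
          have h3 := ih (fun μ => (μ - ν) • g μ) (fun μ hμ => by
            rw [Derivation.map_smul, hg μ (Finset.mem_insert_of_mem hμ), smul_comm]) h1
          have h4 : ∀ μ ∈ s, D0e (g μ) = 0 := fun μ hμ => by
            have := h3 μ hμ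
            rw [Derivation.map_smul, smul_eq_zero] at this
            exact this.resolve_left (sub_ne_zero.2 fun e => hν (e ▸ hμ))
          intro μ hμ
          rcases Finset.mem_insert.1 hμ with rfl | hμ
          · rw [Finset.sum_insert hν, map_add, map_sum, Finset.sum_eq_zero h4, add_zero] at hsum
            exact hsum
          · exact h4 μ hμ
      rw [hbsum]
      refine sum_mem fun μ hμ => ?_
      have hpe : D0e (piece μ) = 0 := hsep _ piece (fun ν _ => hpw ν) (hbsum ▸ hb) μ hμ
      rcases eq_or_ne (piece μ) 0 with h0 | h0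
      · rw [h0]; exact zero_mem _
      have hpn : (piece μ).IsHomogeneous n := IsHomogeneous.sum _ _ _ fun s hs =>
        isHomogeneous_monomial _ (hbn.degree_eq_sum_deg_support (Finset.mem_filter.1 hs).1).symm
      let W := homogeneousSubmodule (Vars L) k n
      have : FiniteDimensional k W := Module.Finite.iff_fg.2 (homogeneousSubmodule_fg _ k n)
      have hW : ∀ (D : Derivation k (MvPolynomial (Vars L) k) (MvPolynomial (Vars L) k)), IsLin D →
          ∀ z ∈ W, D.toLinearMap z ∈ W := fun D hD z hz => hD.isHomogeneous hz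
      let e := (D0e).toLinearMap.restrict (hW _ (trip₀ k L).linE)
      let f := (D0f).toLinearMap.restrict (hW _ (trip₀ k L).linF)
      let h := (D0h).toLinearMap.restrict (hW _ (trip₀ k L).linH)
      have T' : Trip e f h :=
        ⟨LinearMap.ext fun z => Subtype.ext (LinearMap.congr_fun (trip₀ k L).trip.he z.1),
         LinearMap.ext fun z => Subtype.ext (LinearMap.congr_fun (trip₀ k L).trip.hf z.1),
         LinearMap.ext fun z => Subtype.ext (LinearMap.congr_fun (trip₀ k L).trip.ef z.1)⟩
      let v : W := ⟨piece μ, hpn⟩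
      obtain ⟨m, hm, hfm⟩ := exists_nat_weight T' (v := v) (lam := μ) (Subtype.ext hpe) (Subtype.ext (hpw μ))
        (fun e0 => h0 (congrArg Subtype.val e0))
      have hcoe : ∀ j, ((f ^ j) v : MvPolynomial (Vars L) k) =
          ((D0f).toLinearMap ^ j : Module.End k _) (piece μ) := fun j => by
        induction j with
        | zero => rfl
        | succ j ih => rw [pow_succ', pow_succ', Module.End.mul_apply, Module.End.mul_apply, ← ih]; rfl
      obtain ⟨F, hFi, hFe⟩ := exists_lift k L (m := m) (piece μ) hpe (hm ▸ hpw μ)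
        (by rw [← hcoe, hfm]; rfl)
      exact ⟨F, hFi, hFe⟩
    · rintro _ ⟨F, ⟨hF, -⟩, rfl⟩
      show D0e (ev k L F) = 0
      rw [← ev_De, hF, map_zero]
  rw [this]
  exact (invariants_fg (dtrip k L)).map _

end WeitzLib
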