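import Groth.Agent.WeitzLib.Sl2
import Mathlib.RingTheory.MvPolynomial.Homogeneous
import Mathlib.RingTheory.Derivation.Lie
import Mathlib.Algebra.MvPolynomial.Derivation
import Mathlib.RingTheory.Polynomial.Basic

/-!
Hilbert's finiteness theorem for linear actions of `sl₂` on polynomial rings.
-/

universe u

open MvPolynomial

namespace WeitzLib

variable {k : Type u} [Field k] {σ : Type} [Fintype σ]

/-- A derivation given on the variables by linear forms. -/
def IsLin (D : Derivation k (MvPolynomial σ k) (MvPolynomial σ k)) : Prop :=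
  ∀ i, (D (X i)).IsHomogeneous 1

lemma IsLin.isHomogeneous {D : Derivation k (MvPolynomial σ k) (MvPolynomial σ k)} (hD : IsLin D) {n : ℕ}
    {p : MvPolynomial σ k} (hp : p.IsHomogeneous n) : (D p).IsHomogeneous n := by
  classical
  rw [show D = mkDerivation k (fun i => D (X i)) from derivation_ext fun i => by rw [mkDerivation_X]]
  rw [p.as_sum, map_sum]
  refine IsHomogeneous.sum _ _ _ fun s hs => ?_
  rw [mkDerivation_monomial, Finsupp.sum, Finset.smul_sum]
  refine IsHomogeneous.sum _ _ _ fun i hi => ?_
  have hdeg : s.degree = n := hp.degree_eq_sum_deg_support hs |>.symm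
  have h1 : (monomial (s - Finsupp.single i 1) ((s i : k)) : MvPolynomial σ k).IsHomogeneous (n - 1) := by
    refine isHomogeneous_monomial _ ?_
    have h2 : (s - Finsupp.single i 1) + Finsupp.single i 1 = s :=
      tsub_add_cancel_of_le (Finsupp.single_le_iff.2 (Nat.one_le_iff_ne_zero.2 (Finsupp.mem_support_iff.1 hi)))
    have := congrArg Finsupp.degree h2
    rw [map_add, Finsupp.degree_single, hdeg] at this
    omega
  have h3 : n = n - 1 + 1 := by
    have : 1 ≤ s.degree := (Nat.one_le_iff_ne_zero.2 (Finsupp.mem_support_iff.1 hi)).trans (Finsupp.le_degree i s)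
    omega
  rw [smul_eq_C_mul, smul_eq_mul, h3]
  exact (h1.mul (hD i)).C_mul _

variable (De Df Dh : Derivation k (MvPolynomial σ k) (MvPolynomial σ k))

/-- The `sl₂` relations for derivations, checked on variables. -/
structure DTrip : Prop where
  linE : IsLin De
  linF : IsLin Df
  linH : IsLin Dh
  he : ∀ i, Dh (De (X i)) - De (Dh (X i)) = 2 • De (X i)
  hf : ∀ i, Dh (Df (X i)) - Df (Dh (X i)) = -(2 • Df (X i))
  ef : ∀ i, De (Df (X i)) - Df (De (X i)) = Dh (X i)

variable {De Df Dh}

lemma DTrip.trip (T : DTrip De Df Dh) : Trip De.toLinearMap Df.toLinearMap Dh.toLinearMap where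
  he := by
    have : ⁅Dh, De⁆ = (2 : ℕ) • De := derivation_ext fun i => by
      rw [Derivation.commutator_apply, Derivation.smul_apply]; exact T.he i
    refine LinearMap.ext fun x => ?_
    have := DFunLike.congr_fun this x
    rw [Derivation.commutator_apply, Derivation.smul_apply] at this
    simpa using this
  hf := by
    have : ⁅Dh, Df⁆ = -((2 : ℕ) • Df) := derivation_ext fun i => by
      rw [Derivation.commutator_apply, Derivation.neg_apply, Derivation.smul_apply]; exact T.hf i
    refine LinearMap.ext fun x => ?_
    have := DFunLike.congr_fun this x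
    rw [Derivation.commutator_apply, Derivation.neg_apply, Derivation.smul_apply] at this
    simpa using this
  ef := by
    have : ⁅De, Df⁆ = Dh := derivation_ext fun i => by
      rw [Derivation.commutator_apply]; exact T.ef i
    refine LinearMap.ext fun x => ?_
    have := DFunLike.congr_fun this x
    rw [Derivation.commutator_apply] at this
    simpa using this

/-- The common kernel. -/
def invariants (De Df : Derivation k (MvPolynomial σ k) (MvPolynomial σ k)) :
    Subalgebra k (MvPolynomial σ k) where
  carrier := {p | De p = 0 ∧ Df p = 0}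
  mul_mem' := by rintro a b ⟨ha, ha'⟩ ⟨hb, hb'⟩; simp [ha, ha', hb, hb']
  add_mem' := by rintro a b ⟨ha, ha'⟩ ⟨hb, hb'⟩; simp [ha, ha', hb, hb']
  algebraMap_mem' r := by simp

lemma homogeneousComponent_comm {D : Derivation k (MvPolynomial σ k) (MvPolynomial σ k)} (hD : IsLin D)
    (n : ℕ) (p : MvPolynomial σ k) : D (homogeneousComponent n p) = homogeneousComponent n (D p) := by
  conv_rhs => rw [← sum_homogeneousComponent p, map_sum, map_sum]
  rw [Finset.sum_congr rfl fun i _ => homogeneousComponent_of_mem (m := n)
    (hD.isHomogeneous (homogeneousComponent_isHomogeneous i p)), Finset.sum_ite_eq]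
  split_ifs with h
  · rfl
  · rw [homogeneousComponent_eq_zero _ _ (by simp at h; omega), map_zero]

/-- Hilbert's finiteness theorem for `sl₂`. -/
theorem invariants_fg [CharZero k] [IsAlgClosed k] (T : DTrip De Df Dh) : (invariants De Df).FG := by
  classical
  let R := MvPolynomial σ k
  let S := invariants De Df
  let C : Module.End k R := cas De.toLinearMap Df.toLinearMap Dh.toLinearMap
  have hfin : ∀ n, FiniteDimensional k (homogeneousSubmodule σ k n) := fun n =>
    Module.Finite.iff_fg.2 (homogeneousSubmodule_fg σ k n)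
  let G : Set R := {p | p ∈ S ∧ ∃ d, 0 < d ∧ p.IsHomogeneous d}
  obtain ⟨T₀, hT₀, hspan⟩ := Submodule.fg_span_iff_fg_span_finset_subset G |>.1
    (IsNoetherian.noetherian (Submodule.span R G))
  have hST : ∀ t ∈ T₀, t ∈ S := fun t ht => (hT₀ ht).1
  have hkill : ∀ s ∈ S, Dh s = 0 := fun s hs => by
    have := LinearMap.congr_fun T.trip.ef s
    simp [hs.1, hs.2] at this
    exact this.symm
  have hCmul : ∀ s ∈ S, ∀ q, C (s * q) = s * C q := fun s hs q => by
    simp [C, cas, hs.1, hs.2, hkill s hs, mul_add, mul_smul_comm]; ring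
  have key : ∀ n, ∀ x ∈ S, x.IsHomogeneous n → x ∈ Algebra.adjoin k (T₀ : Set R) := by
    intro n
    induction n using Nat.strong_induction_on with
    | _ n ih =>
      intro x hxS hxn
      rcases Nat.eq_zero_or_pos n with rfl | hn
      · rw [totalDegree_eq_zero_iff_eq_C.1 (Nat.le_zero.1 hxn.totalDegree_le)]
        exact Subalgebra.algebraMap_mem _ _
      have hmem : x ∈ Submodule.span R (T₀ : Set R) :=
        hspan ▸ Submodule.subset_span ⟨hxS, n, hn, hxn⟩
      obtain ⟨r, -, hr⟩ := Submodule.mem_span_finset.1 hmem
      -- split off the invariant part of each coefficient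
      have hdec : ∀ t ∈ T₀, ∃ p q : R, p ∈ S ∧
          p.IsHomogeneous (n - t.totalDegree) ∧ q.IsHomogeneous (n - t.totalDegree) ∧
          homogeneousComponent (n - t.totalDegree) (r t) = p + C q := by
        intro t _
        let d := n - t.totalDegree
        let W := homogeneousSubmodule σ k d
        have hW : ∀ (D : Derivation k R R), IsLin D → ∀ z ∈ W, D.toLinearMap z ∈ W :=
          fun D hD z hz => hD.isHomogeneous hz
        let e := De.toLinearMap.restrict (hW De T.linE)
        let f := Df.toLinearMap.restrict (hW Df T.linF)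
        let h := Dh.toLinearMap.restrict (hW Dh T.linH)
        have T' : Trip e f h :=
          ⟨LinearMap.ext fun z => Subtype.ext (LinearMap.congr_fun T.trip.he z.1),
           LinearMap.ext fun z => Subtype.ext (LinearMap.congr_fun T.trip.hf z.1),
           LinearMap.ext fun z => Subtype.ext (LinearMap.congr_fun T.trip.ef z.1)⟩
        obtain ⟨hinv, hcompl⟩ := ker_cas T'
        obtain ⟨p, hp, _, ⟨q, rfl⟩, hpq⟩ := Submodule.mem_sup.1
          (hcompl.sup_eq_top.ge (Submodule.mem_top (x := (⟨homogeneousComponent d (r t),
            homogeneousComponent_mem d _⟩ : W))))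
        obtain ⟨h1, h2, -⟩ := hinv p hp
        exact ⟨p, q, ⟨congrArg Subtype.val h1, congrArg Subtype.val h2⟩, p.2, q.2,
          (congrArg Subtype.val hpq).symm⟩
      choose! p q hpS hpd hqd hpq using hdec
      let T₁ := T₀.filter fun t => t.totalDegree ≤ n
      have hx : x = ∑ t ∈ T₁, homogeneousComponent (n - t.totalDegree) (r t) * t := by
        conv_lhs => rw [← homogeneousComponent_eq_self hxn, ← hr, map_sum]
        rw [Finset.sum_filter]
        refine Finset.sum_congr rfl fun t ht => ?_
        obtain ⟨d, hd, htd⟩ := (hT₀ ht).2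
        rcases eq_or_ne t 0 with rfl | ht0
        · simp
        rw [htd.totalDegree ht0, smul_eq_mul]
        conv_lhs => rw [← sum_homogeneousComponent (r t), Finset.sum_mul, map_sum]
        rw [Finset.sum_congr rfl fun i _ => homogeneousComponent_of_mem (m := n)
          ((homogeneousComponent_isHomogeneous i (r t)).mul htd)]
        by_cases hdn : d ≤ n
        · rw [if_pos hdn]
          by_cases hi : n - d ∈ Finset.range ((r t).totalDegree + 1)
          · rw [Finset.sum_eq_single (n - d) (fun i _ hne => if_neg (by omega)) (fun h => absurd hi h),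
              if_pos (by omega)]
          · refine Eq.trans (Finset.sum_eq_zero fun i hi' => if_neg fun e => hi ?_) ?_
            · rwa [show n - d = i by omega]
            · rw [homogeneousComponent_eq_zero _ _ (by simp at hi; omega), zero_mul]
        · rw [if_neg hdn]
          exact Finset.sum_eq_zero fun i _ => if_neg (by omega)
      have hinv_sum : ∑ t ∈ T₁, p t * t ∈ S := sum_mem fun t ht =>
        mul_mem (hpS t (Finset.mem_filter.1 ht).1) (hST t (Finset.mem_filter.1 ht).1)
      have hdiff : x - ∑ t ∈ T₁, p t * t = C (∑ t ∈ T₁, t * q t) := by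
        rw [hx, ← Finset.sum_sub_distrib, map_sum]
        refine Finset.sum_congr rfl fun t ht => ?_
        rw [hpq t (Finset.mem_filter.1 ht).1, hCmul t (hST t (Finset.mem_filter.1 ht).1)]
        ring
      have hzero : x - ∑ t ∈ T₁, p t * t = 0 := by
        let W := homogeneousSubmodule σ k n
        have hW : ∀ (D : Derivation k R R), IsLin D → ∀ z ∈ W, D.toLinearMap z ∈ W :=
          fun D hD z hz => hD.isHomogeneous hz
        let e := De.toLinearMap.restrict (hW De T.linE)
        let f := Df.toLinearMap.restrict (hW Df T.linF)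
        let h := Dh.toLinearMap.restrict (hW Dh T.linH)
        have T' : Trip e f h :=
          ⟨LinearMap.ext fun z => Subtype.ext (LinearMap.congr_fun T.trip.he z.1),
           LinearMap.ext fun z => Subtype.ext (LinearMap.congr_fun T.trip.hf z.1),
           LinearMap.ext fun z => Subtype.ext (LinearMap.congr_fun T.trip.ef z.1)⟩
        have hqW : ∑ t ∈ T₁, t * q t ∈ W := sum_mem fun t ht => by
          obtain ⟨ht, hle⟩ := Finset.mem_filter.1 ht
          obtain ⟨d, hd, htd⟩ := (hT₀ ht).2
          rcases eq_or_ne t 0 with rfl | ht0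
          · simp
          show (t * q t).IsHomogeneous n
          have h1 := htd.mul (hqd t ht)
          rw [htd.totalDegree ht0] at h1 hle
          rwa [Nat.add_sub_cancel' hle] at h1
        have hyS : x - ∑ t ∈ T₁, p t * t ∈ S := sub_mem hxS hinv_sum
        have hyW : x - ∑ t ∈ T₁, p t * t ∈ W := by
          rw [hdiff]
          exact ((cas e f h) ⟨_, hqW⟩).2
        have hker : (⟨_, hyW⟩ : W) ∈ LinearMap.ker (cas e f h) := by
          rw [LinearMap.mem_ker]
          apply Subtype.ext
          show C (x - ∑ t ∈ T₁, p t * t) = 0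
          simp [C, cas, hyS.1, hyS.2, hkill _ hyS]
        have hrange : (⟨_, hyW⟩ : W) ∈ LinearMap.range (cas e f h) :=
          ⟨⟨_, hqW⟩, Subtype.ext hdiff.symm⟩
        exact congrArg Subtype.val (Submodule.disjoint_def.1 (ker_cas T').2.disjoint _ hker hrange)
      rw [sub_eq_zero.1 hzero]
      refine sum_mem fun t ht => ?_
      obtain ⟨ht, hle⟩ := Finset.mem_filter.1 ht
      obtain ⟨d, hd, htd⟩ := (hT₀ ht).2
      rcases eq_or_ne t 0 with rfl | ht0
      · rw [mul_zero]; exact zero_mem _
      refine mul_mem ?_ (Algebra.subset_adjoin ht)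
      exact ih _ (by rw [htd.totalDegree ht0]; omega) (p t) (hpS t ht) (hpd t ht)
  refine ⟨T₀, le_antisymm (Algebra.adjoin_le hST) fun x hx => ?_⟩
  rw [← sum_homogeneousComponent x]
  refine sum_mem fun n _ => key n _ ⟨?_, ?_⟩ (homogeneousComponent_isHomogeneous n x)
  · rw [homogeneousComponent_comm T.linE, hx.1, map_zero]
  · rw [homogeneousComponent_comm T.linF, hx.2, map_zero]

end WeitzLib
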