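import Mathlib.LinearAlgebra.Eigenspace.Triangularizable
import Mathlib.LinearAlgebra.FiniteDimensional.Lemmas
import Mathlib.Tactic.NoncommRing
import Mathlib.Tactic.LinearCombination
import Mathlib.Algebra.CharZero.Defs

/-!
Elementary representation theory of `sl₂` in characteristic zero: the Casimir operator separates
the invariants.
-/

universe u v

open Module Module.End

namespace WeitzLib

variable {k : Type u} [Field k] {V : Type v} [AddCommGroup V] [Module k V]

/-- Three operators satisfying the relations of `sl₂`. -/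
structure Trip (e f h : End k V) : Prop where
  he : h * e - e * h = 2 • e
  hf : h * f - f * h = -(2 • f)
  ef : e * f - f * e = h

/-- The Casimir operator. -/
def cas (e f h : End k V) : End k V := h * h + 2 • h + 4 • (f * e)

variable {e f h : End k V}

lemma Trip.swap (T : Trip e f h) : Trip f e (-h) where
  he := by rw [neg_mul, mul_neg, sub_neg_eq_add, ← neg_eq_iff_eq_neg.2 T.hf]; noncomm_ring
  hf := by rw [neg_mul, mul_neg, sub_neg_eq_add, ← T.he]; noncomm_ring
  ef := by rw [← T.ef]; noncomm_ring

lemma cas_swap (T : Trip e f h) : cas f e (-h) = cas e f h := by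
  rw [cas, cas, show e * f = f * e + h from (sub_eq_iff_eq_add'.1 T.ef)]
  noncomm_ring

lemma cas_comm (T : Trip e f h) :
    Commute (cas e f h) e ∧ Commute (cas e f h) f ∧ Commute (cas e f h) h := by
  have he : h * e = e * h + 2 • e := sub_eq_iff_eq_add'.1 T.he
  have hf : h * f = f * h + -(2 • f) := sub_eq_iff_eq_add'.1 T.hf
  have ef : e * f = f * e + h := sub_eq_iff_eq_add'.1 T.ef
  have he' : ∀ x, h * (e * x) = e * (h * x) + 2 • (e * x) := fun x => by
    rw [← mul_assoc, he, add_mul, smul_mul_assoc, mul_assoc]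
  have hf' : ∀ x, h * (f * x) = f * (h * x) + -(2 • (f * x)) := fun x => by
    rw [← mul_assoc, hf, add_mul, neg_mul, smul_mul_assoc, mul_assoc]
  have ef' : ∀ x, e * (f * x) = f * (e * x) + h * x := fun x => by
    rw [← mul_assoc, ef, add_mul, mul_assoc]
  simp only [Commute, SemiconjBy, cas, mul_add, add_mul, mul_assoc, smul_mul_assoc, mul_smul_comm]
  refine ⟨?_, ?_, ?_⟩ <;>
  · simp only [he, hf, ef, he', hf', ef', mul_add, add_mul, mul_neg, mul_smul_comm, smul_add,
      smul_neg]
    abel

lemma h_pow_f (T : Trip e f h) {v : V} {μ : k} (hv : h v = μ • v) (j : ℕ) :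
    h ((f ^ j) v) = (μ - 2 * j) • (f ^ j) v := by
  induction j with
  | zero => simpa using hv
  | succ j ih =>
    have : h * f = f * h + -(2 • f) := sub_eq_iff_eq_add'.1 T.hf
    have := LinearMap.congr_fun this ((f ^ j) v)
    simp only [Module.End.mul_apply, LinearMap.add_apply, LinearMap.neg_apply, LinearMap.smul_apply] at this
    rw [pow_succ', Module.End.mul_apply, this, ih, map_smul, ← Nat.cast_smul_eq_nsmul k, ← neg_smul, ← add_smul]
    congr 1
    push_cast; ring

lemma h_pow_e (T : Trip e f h) {v : V} {μ : k} (hv : h v = μ • v) (j : ℕ) :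
    h ((e ^ j) v) = (μ + 2 * j) • (e ^ j) v := by
  have := h_pow_f T.swap (μ := -μ) (v := v) (by simp [hv]) j
  rw [LinearMap.neg_apply, neg_eq_iff_eq_neg, ← neg_smul] at this
  rw [this]; congr 1; ring

variable [CharZero k]

lemma exists_pow_eq_zero_of_weights [FiniteDimensional k V] (g : End k V) (v : V) (w : ℕ → k)
    (hw : Function.Injective w) (hg : ∀ j, h ((g ^ j) v) = w j • (g ^ j) v) :
    ∃ j, (g ^ j) v = 0 := by
  by_contra hne
  push Not at hne
  have := eigenvectors_linearIndependent h (Set.range w) (fun x => (g ^ (Function.invFun w x.1)) v)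
    (fun ⟨x, j, hj⟩ => by
      subst hj
      simp only [Function.leftInverse_invFun hw j]
      exact ⟨mem_eigenspace_iff.2 (hg j), hne j⟩)
  have : Finite (Set.range w) := this.finite
  exact (Set.infinite_range_of_injective hw) (Set.toFinite _)

lemma e_f_pow (T : Trip e f h) {v : V} {lam : k} (hev : e v = 0) (hv : h v = lam • v) (j : ℕ) :
    e ((f ^ (j + 1)) v) = ((j + 1 : k) * (lam - j)) • (f ^ j) v := by
  have ef : e * f = f * e + h := sub_eq_iff_eq_add'.1 T.ef
  induction j with
  | zero =>
    have := LinearMap.congr_fun ef v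
    simp only [Module.End.mul_apply, LinearMap.add_apply, hev, map_zero, zero_add, hv] at this
    simpa using this
  | succ j ih =>
    have := LinearMap.congr_fun ef ((f ^ (j + 1)) v)
    simp only [Module.End.mul_apply, LinearMap.add_apply] at this
    rw [pow_succ' f (j + 1), Module.End.mul_apply, this, ih, map_smul,
      show f ((f ^ j) v) = (f ^ (j + 1)) v by rw [pow_succ', Module.End.mul_apply],
      h_pow_f T hv, ← add_smul]
    congr 1
    push_cast; ring

/-- The weight of a highest weight vector is a natural number `m`, and `f ^ (m + 1)` kills it. -/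
lemma exists_nat_weight [FiniteDimensional k V] (T : Trip e f h) {v : V} {lam : k} (hev : e v = 0)
    (hv : h v = lam • v) (hv0 : v ≠ 0) : ∃ m : ℕ, lam = m ∧ (f ^ (m + 1)) v = 0 := by
  classical
  have hex := exists_pow_eq_zero_of_weights f v (fun j : ℕ => lam - 2 * j)
    (fun a b hab => by simpa using hab) (fun j => h_pow_f T hv j)
  obtain ⟨m, hm⟩ : ∃ m, Nat.find hex = m + 1 := Nat.exists_eq_succ_of_ne_zero fun h0 => hv0 (by
    simpa [h0] using Nat.find_spec hex)
  have hs : (f ^ (m + 1)) v = 0 := hm ▸ Nat.find_spec hex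
  have hmne : (f ^ m) v ≠ 0 := Nat.find_min hex (by omega)
  refine ⟨m, ?_, hs⟩
  have := e_f_pow T hev hv m
  rw [hs, map_zero, eq_comm, smul_eq_zero, mul_eq_zero, sub_eq_zero] at this
  rcases this with (h1 | h1) | h1
  · exact absurd h1 (Nat.cast_add_one_ne_zero m)
  · exact h1
  · exact absurd h1 hmne

variable [IsAlgClosed k]

lemma eigen_eq_zero_of_nilpotent [FiniteDimensional k V] (T : Trip e f h)
    (hC : IsNilpotent (cas e f h)) {v : V} {μ : k} (hv : h v = μ • v) (hv0 : v ≠ 0) :
    ∃ j : ℕ, μ = -(2 * j) := by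
  classical
  have hex := exists_pow_eq_zero_of_weights e v (fun j : ℕ => μ + 2 * j)
    (fun a b hab => by simpa using hab) (fun j => h_pow_e T hv j)
  obtain ⟨j, hj⟩ : ∃ j, Nat.find hex = j + 1 := Nat.exists_eq_succ_of_ne_zero fun h0 => hv0 (by
    simpa [h0] using Nat.find_spec hex)
  have hs : e ((e ^ j) v) = 0 := by
    rw [← Module.End.mul_apply, ← pow_succ']; exact hj ▸ Nat.find_spec hex
  have hne : (e ^ j) v ≠ 0 := Nat.find_min hex (by omega)
  obtain ⟨m, hm, -⟩ := exists_nat_weight T hs (h_pow_e T hv j) hne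
  refine ⟨j, ?_⟩
  obtain ⟨n, hn⟩ := hC
  have hCv : ∀ i : ℕ, (cas e f h ^ i) ((e ^ j) v) = ((m : k) * m + 2 * m) ^ i • (e ^ j) v := by
    intro i
    induction i with
    | zero => simp
    | succ i ih =>
      have h1 : cas e f h ((e ^ j) v) = ((m : k) * m + 2 * m) • (e ^ j) v := by
        simp only [cas, LinearMap.add_apply, LinearMap.smul_apply, Module.End.mul_apply, hs, map_zero,
          smul_zero, add_zero, h_pow_e T hv j, map_smul, hm, smul_smul, ← Nat.cast_smul_eq_nsmul k,
          ← add_smul]
        push_cast; ring_nf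
      rw [pow_succ, Module.End.mul_apply, h1, map_smul, ih, smul_smul, pow_succ']
  have h2 := hCv n
  rw [hn, LinearMap.zero_apply, eq_comm, smul_eq_zero] at h2
  rcases h2 with h2 | h2
  · have h3 : ((m * m + 2 * m : ℕ) : k) = 0 := by push_cast; exact eq_zero_of_pow_eq_zero h2
    rw [Nat.cast_eq_zero] at h3
    have : m = 0 := by nlinarith
    rw [this] at hm
    linear_combination hm
  · exact absurd h2 hne

lemma eq_zero_of_nilpotent [FiniteDimensional k V] (T : Trip e f h) (hC : IsNilpotent (cas e f h)) :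
    e = 0 ∧ f = 0 ∧ h = 0 := by
  have hspec : ∀ μ : k, h.HasEigenvalue μ → μ = 0 := by
    intro μ hμ
    obtain ⟨v, hv⟩ := hμ.exists_hasEigenvector
    have hv' : h v = μ • v := mem_eigenspace_iff.1 hv.1
    obtain ⟨i, hi⟩ := eigen_eq_zero_of_nilpotent T hC hv' hv.2
    obtain ⟨j, hj⟩ := eigen_eq_zero_of_nilpotent T.swap (cas_swap T ▸ hC) (μ := -μ) (v := v)
      (by simp [hv']) hv.2
    have : ((i + j : ℕ) : k) = 0 := by
      push_cast; linear_combination (1/2 : k) * hi + (1/2 : k) * hj
    rw [Nat.cast_eq_zero] at this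
    rw [hi, show i = 0 by omega]; simp
  have hnil : ∃ n, h ^ n = 0 := by
    refine ⟨finrank k V, ?_⟩
    have htop := iSup_maxGenEigenspace_eq_top (K := k) h
    have hle : (⊤ : Submodule k V) ≤ h.maxGenEigenspace 0 := by
      rw [← htop]
      refine iSup_le fun μ => ?_
      by_cases hμ : μ = 0
      · rw [hμ]
      · have : h.maxGenEigenspace μ = ⊥ := by
          by_contra hne
          refine hμ (hspec μ ?_)
          exact hasEigenvalue_of_hasGenEigenvalue (k := finrank k V)
            (by rwa [HasGenEigenvalue, HasUnifEigenvalue, ← maxGenEigenspace_eq_genEigenspace_finrank])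
        rw [this]; exact bot_le
    refine LinearMap.ext fun v => ?_
    have := hle (Submodule.mem_top (x := v))
    rw [maxGenEigenspace_eq_genEigenspace_finrank, mem_genEigenspace_nat, LinearMap.mem_ker] at this
    simpa using this
  obtain ⟨n, hn⟩ := hnil
  -- an operator shifting the weight by a non-zero amount vanishes
  have hshift : ∀ (g : End k V) (c : k), c ≠ 0 → h * g - g * h = c • g → g = 0 := by
    intro g c hc hg
    have h1 : ∀ i : ℕ, (h - c • 1) ^ i * g = g * h ^ i := by
      intro i
      induction i with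
      | zero => simp
      | succ i ih =>
        rw [pow_succ, mul_assoc, sub_mul, smul_mul_assoc, one_mul, sub_eq_iff_eq_add'.1 hg,
          add_sub_cancel_right, ← mul_assoc, ih, pow_succ, mul_assoc]
    have hinj : Function.Injective ((h - c • 1) ^ n : End k V) := by
      rw [Module.End.coe_pow]
      refine Function.Injective.iterate ?_ n
      rw [injective_iff_map_eq_zero]
      intro v hv
      by_contra hv0
      refine hc (hspec c (hasEigenvalue_of_hasEigenvector ⟨mem_eigenspace_iff.2 ?_, hv0⟩))
      simpa [sub_eq_zero] using hv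
    refine LinearMap.ext fun v => hinj ?_
    rw [LinearMap.zero_apply, map_zero, ← Module.End.mul_apply, h1, hn, mul_zero, LinearMap.zero_apply]
  have e0 : e = 0 := hshift e 2 two_ne_zero (by rw [T.he, ← Nat.cast_smul_eq_nsmul k]; norm_num)
  have f0 : f = 0 := hshift f (-2) (by norm_num) (by
    rw [T.hf, ← Nat.cast_smul_eq_nsmul k, ← neg_smul]; norm_num)
  exact ⟨e0, f0, by rw [← T.ef, e0, f0]; simp⟩

/-- The kernel of the Casimir operator is the space of invariants, and is complementary to the image. -/
theorem ker_cas [FiniteDimensional k V] (T : Trip e f h) :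
    (∀ x, cas e f h x = 0 → e x = 0 ∧ f x = 0 ∧ h x = 0) ∧
      IsCompl (LinearMap.ker (cas e f h)) (LinearMap.range (cas e f h)) := by
  obtain ⟨ce, cf, ch⟩ := cas_comm T
  let C := cas e f h
  let W := LinearMap.ker (C ^ 2)
  have hmem : ∀ g : End k V, Commute C g → ∀ x ∈ W, g x ∈ W := fun g hg x hx => by
    rw [LinearMap.mem_ker] at hx ⊢
    rw [← Module.End.mul_apply, (hg.pow_left 2).eq, Module.End.mul_apply, hx, map_zero]
  let e' := e.restrict (hmem e ce)
  let f' := f.restrict (hmem f cf)
  let h' := h.restrict (hmem h ch)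
  have T' : Trip e' f' h' :=
    ⟨LinearMap.ext fun x => Subtype.ext (LinearMap.congr_fun T.he x.1),
     LinearMap.ext fun x => Subtype.ext (LinearMap.congr_fun T.hf x.1),
     LinearMap.ext fun x => Subtype.ext (LinearMap.congr_fun T.ef x.1)⟩
  have hnil : IsNilpotent (cas e' f' h') := ⟨2, LinearMap.ext fun x => Subtype.ext (by
    have hC : ∀ y : W, (cas e' f' h' y : V) = C y := fun y => rfl
    rw [pow_two, Module.End.mul_apply, hC, hC, ← Module.End.mul_apply, ← pow_two]
    exact x.2)⟩
  obtain ⟨h1, h2, h3⟩ := eq_zero_of_nilpotent T' hnil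
  have hinv : ∀ x, (C ^ 2) x = 0 → e x = 0 ∧ f x = 0 ∧ h x = 0 := fun x hx =>
    ⟨congrArg Subtype.val (LinearMap.congr_fun h1 ⟨x, hx⟩),
      congrArg Subtype.val (LinearMap.congr_fun h2 ⟨x, hx⟩),
      congrArg Subtype.val (LinearMap.congr_fun h3 ⟨x, hx⟩)⟩
  have hker : ∀ x, C x = 0 → (C ^ 2) x = 0 := fun x hx => by
    rw [pow_two, Module.End.mul_apply, hx, map_zero]
  refine ⟨fun x hx => hinv x (hker x hx), ?_⟩
  have hdis : Disjoint (LinearMap.ker C) (LinearMap.range C) := by
    rw [Submodule.disjoint_def]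
    rintro y hy ⟨x, rfl⟩
    obtain ⟨a, b, c⟩ := hinv x (by rw [pow_two, Module.End.mul_apply]; exact hy)
    simp [C, cas, a, c]
  exact (Submodule.isCompl_iff_disjoint _ _ (le_of_eq (by
    rw [add_comm]; exact (LinearMap.finrank_range_add_finrank_ker C).symm))).2 hdis

end WeitzLib
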